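import Groth.Agent.Fano.K714.FrIrr
import Groth.Agent.Fano.K714.ConicIrr

/-!
# Parametrised rational curves on a cubic threefold: definitions (S16525, S16526)

* `Cl k S`: Zariski closure; `IsComp k X W`: `W` is an irreducible component of `X`.
* `DimGE k S d`: `S` dominates `k^d` under a polynomial map (dimension at least `d`); `DimLE k S d`: not `DimGE (d+1)`.
* `A k e = V^(e+1)` (`V = k^5`): curves `a(s) = ∑ s^i a_i` of degree `≤ e`; `ev a s`, homogeneous value `hev a s t`,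
  Hasse derivatives `hd a j s`.
* `Z T e`: curves on the cubic `T v v v = 0`.
* `Chart T e`: the comb chart: `(a, t, α, p)` with `a(t_i) = α_i p_i` and the equations of "vanishing to third order at
  `t_i`" divided by powers of `α_i`.
* `comb x t p`: the comb with contracted handle `x` and teeth `⟨x, p_i⟩` at `t_i`; `Over W`: the part of the chart over
  a set `W` of curves with all `α_i ≠ 0`; `Reach T x e W`: `W` degenerates to a comb at `x`.
* `GoodPt T x`.
* `hat W`, `bd W`: one-parameter degenerations `a = α p + t b`, `α → 0`.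
-/

set_option autoImplicit false

universe u

namespace K470.Cur

open LefPen Groth.Agent.Lefpen.H703.ZOpen Module K714.Irr K714.Frames

section Top

variable (k : Type u) [Field k] {W : Type u} [AddCommGroup W] [Module k W]

/-- Zariski closure -/
def Cl (S : Set W) : Set W := {v | ∀ O : Set W, IsZOpen k O → v ∈ O → (S ∩ O).Nonempty}

/-- irreducible components -/
def IsComp (X C : Set W) : Prop := C ⊆ X ∧ Irr k C ∧ ∀ C' : Set W, C' ⊆ X → Irr k C' → C ⊆ C' → C' = C

/-- dimension at least `d` -/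
def DimGE (S : Set W) (d : ℕ) : Prop :=
  ∃ φ : W → (Fin d → k), IsPolyMap k φ ∧ ∀ O : Set (Fin d → k), IsZOpen k O → O.Nonempty → ∃ s ∈ S, φ s ∈ O

/-- dimension at most `d` -/
def DimLE (S : Set W) (d : ℕ) : Prop := ¬ DimGE k S (d + 1)

end Top

section Curves

variable (k : Type u) [Field k]

/-- parametrised curves of degree at most `e` in `V = k^5` -/
abbrev A (e : ℕ) : Type u := Fin (e + 1) → Fin 5 → k

variable {k}

/-- value at `s` -/
def ev {e : ℕ} (a : A k e) (s : k) : Fin 5 → k := ∑ i : Fin (e + 1), s ^ (i : ℕ) • a i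

/-- value at `(s : t)`; `ev a t = hev a 1 t` -/
def hev {e : ℕ} (a : A k e) (s t : k) : Fin 5 → k := ∑ i : Fin (e + 1), (s ^ (e - (i : ℕ)) * t ^ (i : ℕ)) • a i

/-- Hasse derivatives: `ev a (s + h) = ∑ j, h ^ j • hd a j s` -/
def hd {e : ℕ} (a : A k e) (j : ℕ) (s : k) : Fin 5 → k :=
  ∑ i : Fin (e + 1), (((i : ℕ).choose j : k) * s ^ ((i : ℕ) - j)) • a i

/-- `x · ∏ (s - t_i)` as a curve of degree `≤ e` -/
noncomputable def prodCurve {e : ℕ} (x : Fin 5 → k) (t : Fin e → k) : A k e :=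
  fun i => (∏ j, (Polynomial.X - Polynomial.C (t j))).coeff (i : ℕ) • x

/-- `r(s) x` for a polynomial `r` -/
def scal {e : ℕ} (r : Fin (e + 1) → k) (x : Fin 5 → k) : A k e := fun i => r i • x

/-- padding by zeros -/
def pad {e e' : ℕ} (a : A k e) : A k e' := fun i => if h : (i : ℕ) < e + 1 then a ⟨i, h⟩ else 0

variable (T : (Fin 5 → k) →ₗ[k] (Fin 5 → k) →ₗ[k] (Fin 5 → k) →ₗ[k] k)

/-- the cone over the cubic threefold -/
def X0 : Set (Fin 5 → k) := {v | T v v v = 0}

/-- curves of degree `≤ e` on the cubic -/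
def Z (e : ℕ) : Set (A k e) := {a | ∀ s, T (ev a s) (ev a s) (ev a s) = 0}

/-- directions of lines through `x` (closure) -/
def Cone (x : Fin 5 → k) : Set (Fin 5 → k) := {p | T p p p = 0 ∧ T p p x = 0 ∧ T p x x = 0}

/-- the ambient space of the comb chart: `(a, t, α, p)` -/
abbrev Y (k : Type u) (e : ℕ) : Type u := A k e × (Fin e → k) × (Fin e → k) × (Fin e → Fin 5 → k)

/-- the comb chart -/
def Chart (e : ℕ) : Set (Y k e) :=
  {y | T (y.1 (Fin.last e)) (y.1 (Fin.last e)) (y.1 (Fin.last e)) = 0 ∧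
    ∀ i, ev y.1 (y.2.1 i) = y.2.2.1 i • y.2.2.2 i ∧
      T (y.2.2.2 i) (y.2.2.2 i) (y.2.2.2 i) = 0 ∧
      T (y.2.2.2 i) (y.2.2.2 i) (hd y.1 1 (y.2.1 i)) = 0 ∧
      y.2.2.1 i * T (y.2.2.2 i) (y.2.2.2 i) (hd y.1 2 (y.2.1 i)) +
        T (y.2.2.2 i) (hd y.1 1 (y.2.1 i)) (hd y.1 1 (y.2.1 i)) = 0}

/-- the part of the chart over a set of curves -/
def Ov {e : ℕ} (W : Set (A k e)) : Set (Y k e) :=
  {y | y.1 ∈ W ∧ Function.Injective y.2.1 ∧ ∀ i, y.2.2.1 i ≠ 0 ∧ ev y.1 (y.2.1 i) = y.2.2.1 i • y.2.2.2 i}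

/-- the comb with contracted handle `x` and teeth `⟨x, p_i⟩` at `t_i` -/
noncomputable def comb {e : ℕ} (x : Fin 5 → k) (t : Fin e → k) (p : Fin e → Fin 5 → k) : Y k e :=
  (prodCurve x t, t, 0, p)

/-- `t, p` are data of a comb at `x` -/
def IsComb {e : ℕ} (x : Fin 5 → k) (t : Fin e → k) (p : Fin e → Fin 5 → k) : Prop :=
  Function.Injective t ∧ ∀ i, (x, p i) ∈ FR T

/-- `W` degenerates to a comb at `x` -/
def Reach {e : ℕ} (x : Fin 5 → k) (W : Set (A k e)) : Prop :=
  ∃ t p, IsComb T x t p ∧ comb x t p ∈ Cl k (Ov W)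

/-- first type -/
def First (x p : Fin 5 → k) : Prop := LinearIndependent k ![T x x, T x p, T p p]

/-- lines meeting `⟨x, p⟩` at `x + s p`, different from it: `(s, q)` -/
def Inc (x p : Fin 5 → k) : Set (k × (Fin 5 → k)) :=
  {y | LinearIndependent k ![x, p, y.2] ∧ (x + y.1 • p, y.2) ∈ FR T}

/-- good points -/
def GoodPt (x : Fin 5 → k) : Prop :=
  x ≠ 0 ∧ T x x x = 0 ∧ (∀ p, (x, p) ∈ FR T → First T x p ∧ Irr k (Inc T x p)) ∧
    ∃ p : Fin 3 → Fin 5 → k, (∀ i, (x, p i) ∈ FR T) ∧ ∀ i j, i ≠ j → LinearIndependent k ![x, p i, p j]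

end Curves

section Boundary

variable {k : Type u} [Field k]

/-- one-parameter degenerations `a = α p + t b` with `α ≠ 0` -/
def hat {e : ℕ} (W : Set (A k (e + 1))) : Set (k × (Fin 5 → k) × A k e) :=
  {q | q.1 ≠ 0 ∧ (Fin.cons (q.1 • q.2.1) q.2.2 : A k (e + 1)) ∈ W}

/-- the boundary -/
def bd {e : ℕ} (W : Set (A k (e + 1))) : Set ((Fin 5 → k) × A k e) := {q | ((0 : k), q) ∈ Cl k (hat W)}

end Boundary

end K470.Cur
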