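import Groth.Agent.Fano.K714.RatTop
import Groth.Agent.Fano.K276.QuartFin
import Groth.Agent.Fano.K470.CurDef

/-!
# Rational curves on a smooth cubic threefold and the Hilbert scheme: assembly (S16526, S16525)

* `EmbSet f d`: coefficient systems of embedded rational curves of degree `d` on `V_+(f)`.
* `mem_Z_iff`: the condition of `K470.Cur.Z` in terms of the form `f`.
* `exists_isClass`: embedded curves have a class in the Hilbert scheme.
* `irr_emb`: irreducibility of `EmbSet f d` from the irreducibility of the set of curves of rank at least three.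
* `main`: the statement of S16526 from the nodes.
-/

set_option autoImplicit false
universe u
open CategoryTheory CategoryTheory.Limits AlgebraicGeometry TopologicalSpace Opposite

namespace K470.Asm

open Groth.Agent.Fano Groth.Agent.Fano.K714 Groth.Agent.Fano.K714.Rat Groth.Agent.Lefpen.H703.ZOpen LefPen
open K714.Irr

variable {k : Type u} [Field k]

/-- coefficient systems of embedded rational curves of degree `d` on `V_+(f)` (not necessarily linearly independent) -/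
def EmbSet (f : LefPen.Form 4 k 3) (d : ℕ) : Set (Fin (d + 1) → Fin 5 → k) :=
  {c | (∀ s t : k, MvPolynomial.eval (cpt c s t) f.1 = 0) ∧
    ∃ i : CohB1.ProjSpace 1 k ⟶ Xf f, IsPar f d c i ∧ IsClosedImmersion i}

theorem ev_eq {e : ℕ} (a : K470.Cur.A k e) (t : k) : K470.Cur.ev a t = cpt a 1 t := by
  simp [K470.Cur.ev, cpt]

theorem cpt_smul {e : ℕ} (a : K470.Cur.A k e) {s : k} (hs : s ≠ 0) (t : k) :
    cpt a s t = s ^ e • K470.Cur.ev a (t / s) := by
  unfold K470.Cur.ev cpt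
  rw [Finset.smul_sum]
  refine Finset.sum_congr rfl fun m _ => ?_
  rw [smul_smul]
  congr 1
  have hm : (m : ℕ) ≤ e := by have := m.2; omega
  have h1 : s ^ e = s ^ (e - (m : ℕ)) * s ^ (m : ℕ) := by rw [← pow_add]; congr 1; omega
  rw [h1, div_pow]
  field_simp

theorem isPolyMap_cpt {e : ℕ} (a : K470.Cur.A k e) (t : k) : IsPolyMap k (fun s : k => cpt a s t) := by
  unfold cpt
  intro l
  simp only [map_sum, map_smul, smul_eq_mul]
  have hid : IsPolyFun k (fun s : k => s) := isPolyFun_linear' (LinearMap.id : k →ₗ[k] k)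
  refine pf_sum _ fun m _ => pf_mul (pf_mul (pf_pow hid _) (isPolyFun_const _))
    (isPolyFun_const _)

theorem mem_Z_iff [Infinite k] [CharZero k] (f : LefPen.Form 4 k 3) {e : ℕ} (a : K470.Cur.A k e) :
    a ∈ K470.Cur.Z (K656.Trilin.tri f.1) e ↔ ∀ s t : k, MvPolynomial.eval (cpt a s t) f.1 = 0 := by
  have hd : ∀ v, K656.Trilin.tri f.1 v v v = MvPolynomial.eval v f.1 :=
    fun v => K656.Trilin.tri_diag f.2 v
  constructor
  · intro h
    have key : ∀ s t : k, s ≠ 0 → MvPolynomial.eval (cpt a s t) f.1 = 0 := by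
      intro s t hs
      rw [← hd, cpt_smul a hs]
      simp only [map_smul, LinearMap.smul_apply, smul_eq_mul]
      have h1 := h (t / s)
      rw [h1]
      simp
    intro s t
    by_contra hne
    have hO : IsZOpen k {s : k | MvPolynomial.eval (cpt a s t) f.1 ≠ 0} := by
      refine isZOpen_basic (pf_comp (isPolyFun_eval f.1 (x := fun v : Fin 5 → k => v) fun i => ?_)
        (isPolyMap_cpt a t))
      exact isPolyFun_linear' (LinearMap.proj (R := k) (φ := fun _ : Fin 5 => k) i)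
    have hid : IsPolyFun k (fun s : k => s) := isPolyFun_linear' (LinearMap.id : k →ₗ[k] k)
    have hO' : IsZOpen k {s : k | s ≠ 0} := isZOpen_basic hid
    obtain ⟨r, -, hr, hr'⟩ := (irr_univ (k := k) (V := k)).2 _ _ hO hO' ⟨s, trivial, hne⟩ ⟨1, trivial, one_ne_zero⟩
    exact hr (key r t hr')
  · intro h s
    change K656.Trilin.tri f.1 (K470.Cur.ev a s) (K470.Cur.ev a s) (K470.Cur.ev a s) = 0
    rw [hd, ev_eq]
    exact h 1 s

/-- An embedded curve has a class in the Hilbert scheme. -/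
theorem exists_isClass (f : LefPen.Form 4 k 3) (H : Over (Spec (CommRingCat.of k)))
    (Z : FGA.HilbSet (ps f) H) (hH : FGA.HilbRepresentedBy (ps f) H Z) {d : ℕ} {c : Fin (d + 1) → Fin 5 → k}
    (hc : c ∈ EmbSet f d) : ∃ x, IsClass f H Z d c x := by
  obtain ⟨-, i, hi, hcl⟩ := hc
  have hid : Spec.map (CommRingCat.ofHom (RingHom.id k)) = 𝟙 (Spec (CommRingCat.of k)) := by
    rw [CommRingCat.ofHom_id, Spec.map_id]
  have hjw : i ≫ ps f = (i ≫ ps f) ≫ Spec.map (CommRingCat.ofHom (RingHom.id k)) := by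
    rw [hid, Category.comp_id]
  have hpr : IsProper (i ≫ ps f) := inferInstance
  have hflat : Flat (i ≫ ps f) := inferInstance
  have hcl' : IsClosedImmersion (pullback.lift i (i ≫ ps f) hjw) := by
    have : IsClosedImmersion (pullback.lift i (i ≫ ps f) hjw ≫
        pullback.fst (ps f) (Spec.map (CommRingCat.ofHom (RingHom.id k)))) := by
      rw [pullback.lift_fst]; exact hcl
    have hs : IsSeparated (pullback.fst (ps f) (Spec.map (CommRingCat.ofHom (RingHom.id k)))) := inferInstance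
    exact IsClosedImmersion.of_comp _ (pullback.fst (ps f) (Spec.map (CommRingCat.ofHom (RingHom.id k))))
  obtain ⟨g, hg⟩ := K276.QuartFin.famToHilb (ps f) H Z hH k (RingHom.id k) (i ≫ ps f) i hjw hcl'
  have hm : Spec.map (CommRingCat.ofHom (RingHom.id k)) ≫ Spec.map (CommRingCat.ofHom (RingHom.id k)) =
      𝟙 (Spec (CommRingCat.of k)) := by rw [hid, Category.comp_id]
  have hpb : IsPullback (𝟙 (CohB1.ProjSpace 1 k)) (i ≫ ps f) (i ≫ ps f)
      (Spec.map (CommRingCat.ofHom (RingHom.id k))) := by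
    rw [hid]
    exact IsPullback.of_horiz_isIso ⟨by simp⟩
  refine ⟨_, _, i, rfl, hi, (hg (RingHom.id k) hm _ (i ≫ ps f) (𝟙 _) hpb).trans ?_⟩
  rw [Category.id_comp]

theorem irr_emb [Infinite k] [CharZero k] (f : LefPen.Form 4 k 3) {d : ℕ}
    (hirr : (∃ a ∈ K470.Cur.Z (K656.Trilin.tri f.1) d,
        3 ≤ Module.finrank k ↥(Submodule.span k (Set.range a))) →
      Irr k {a : K470.Cur.A k d | a ∈ K470.Cur.Z (K656.Trilin.tri f.1) d ∧
        3 ≤ Module.finrank k ↥(Submodule.span k (Set.range a))})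
    (hrank : ∀ c ∈ EmbSet f d, 3 ≤ Module.finrank k ↥(Submodule.span k (Set.range c)))
    (hopen : ∀ c₀ ∈ EmbSet f d, ∃ G : MvPolynomial (Fin (d + 1) × Fin 5) k,
      MvPolynomial.eval (fun q => c₀ q.1 q.2) G ≠ 0 ∧
      ∀ c : Fin (d + 1) → Fin 5 → k, (∀ s t : k, MvPolynomial.eval (cpt c s t) f.1 = 0) →
        MvPolynomial.eval (fun q => c q.1 q.2) G ≠ 0 → c ∈ EmbSet f d)
    (hne : (EmbSet f d).Nonempty) : Irr k (EmbSet f d) := by
  obtain ⟨c₀, hc₀⟩ := hne
  have hR := hirr ⟨c₀, (mem_Z_iff f c₀).2 hc₀.1, hrank c₀ hc₀⟩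
  obtain ⟨G, hG, h1⟩ := hopen c₀ hc₀
  have hO : IsZOpen k {c : Fin (d + 1) → Fin 5 → k | MvPolynomial.eval (fun q => c q.1 q.2) G ≠ 0} :=
    RatTop.isZOpen_eval G
  have hc₀R : c₀ ∈ {a : K470.Cur.A k d | a ∈ K470.Cur.Z (K656.Trilin.tri f.1) d ∧
        3 ≤ Module.finrank k ↥(Submodule.span k (Set.range a))} :=
    ⟨(mem_Z_iff f c₀).2 hc₀.1, hrank c₀ hc₀⟩
  refine (hR.inter_open hO ⟨c₀, hc₀R, hG⟩).of_dense ?_ ?_
  · rintro c ⟨⟨hcZ, -⟩, hcG⟩
    exact h1 c ((mem_Z_iff f c).1 hcZ) hcG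
  · intro v hv O' hO' hvO'
    obtain ⟨w, hw, hwO, hwO'⟩ := hR.2 _ O' hO hO' ⟨c₀, hc₀R, hG⟩
      ⟨v, ⟨(mem_Z_iff f v).2 hv.1, hrank v hv⟩, hvO'⟩
    exact ⟨w, ⟨hw, hwO⟩, hwO'⟩

/-- The statement of S16526 (and of S16525) from the nodes. -/
theorem main [IsAlgClosed k] [CharZero k] (f : LefPen.Form 4 k 3) {d : ℕ} {N : WithBot ℕ∞}
    (hirr : (∃ a ∈ K470.Cur.Z (K656.Trilin.tri f.1) d,
        3 ≤ Module.finrank k ↥(Submodule.span k (Set.range a))) →
      Irr k {a : K470.Cur.A k d | a ∈ K470.Cur.Z (K656.Trilin.tri f.1) d ∧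
        3 ≤ Module.finrank k ↥(Submodule.span k (Set.range a))})
    (rank_emb : ∀ c ∈ EmbSet f d, 3 ≤ Module.finrank k ↥(Submodule.span k (Set.range c)))
    (exists_emb : ∀ (i : CohB1.ProjSpace 1 k ⟶ Xf f) (_ : IsClosedImmersion i)
      (_ : i ≫ ps f = CohB1.ProjSpace.toSpec 1 k)
      (_ : Nonempty ((Scheme.Modules.pullback (i ≫ emb f)).obj (Twist.twistProjSpace 4 k 1) ≅
        Twist.twistProjSpace 1 k (d : ℤ))), ∃ c ∈ EmbSet f d, IsPar f d c i)
    (deg_of_isPar : ∀ (c : Fin (d + 1) → Fin 5 → k) (i : CohB1.ProjSpace 1 k ⟶ Xf f) (_ : IsPar f d c i),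
      Nonempty ((Scheme.Modules.pullback (i ≫ emb f)).obj (Twist.twistProjSpace 4 k 1) ≅
        Twist.twistProjSpace 1 k (d : ℤ)))
    (nonempty : (EmbSet f d).Nonempty)
    (H : Over (Spec (CommRingCat.of k))) (Z : FGA.HilbSet (ps f) H) (hH : FGA.HilbRepresentedBy (ps f) H Z)
    (exists_poly : ∀ (A : H.left.Opens) (c₀ : Fin (d + 1) → Fin 5 → k) (_ : c₀ ∈ EmbSet f d) (x₀ : ↥H.left)
      (_ : IsClass f H Z d c₀ x₀) (_ : x₀ ∈ A),
      ∃ G : MvPolynomial (Fin (d + 1) × Fin 5) k, MvPolynomial.eval (fun q => c₀ q.1 q.2) G ≠ 0 ∧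
      ∀ c : Fin (d + 1) → Fin 5 → k, (∀ s t : k, MvPolynomial.eval (cpt c s t) f.1 = 0) →
        MvPolynomial.eval (fun q => c q.1 q.2) G ≠ 0 → c ∈ EmbSet f d ∧ ∃ x ∈ A, IsClass f H Z d c x)
    (regular : ∀ (c : Fin (d + 1) → Fin 5 → k) (i : CohB1.ProjSpace 1 k ⟶ Xf f)
      (_ : IsClosedImmersion i) (_ : IsPar f d c i) (h : pt k ⟶ H)
      (_ : FGA.hilbPull (ps f) h Z.1 = i.ker.comap (pullback.fst (ps f) (pt k).hom)),
      ringKrullDim (H.left.presheaf.stalk (h.left.base (IsLocalRing.closedPoint k))) = N)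
    (T : Set ↥H.left)
    (hT : T = {x | ∃ (h : Over.mk (𝟙 (Spec (CommRingCat.of k))) ⟶ H)
      (i : CohB1.ProjSpace 1 k ⟶ (LefPen.hypIdeal f).subscheme),
      x = h.left.base (IsLocalRing.closedPoint k) ∧ IsClosedImmersion i ∧
      i ≫ (LefPen.hypIdeal f).subschemeι ≫ CohB1.ProjSpace.toSpec 4 k = CohB1.ProjSpace.toSpec 1 k ∧
      Nonempty ((Scheme.Modules.pullback (i ≫ (LefPen.hypIdeal f).subschemeι)).obj
        (Twist.twistProjSpace 4 k 1) ≅ Twist.twistProjSpace 1 k (d : ℤ)) ∧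
      FGA.hilbPull ((LefPen.hypIdeal f).subschemeι ≫ CohB1.ProjSpace.toSpec 4 k) h Z.1 =
        i.ker.comap (pullback.fst ((LefPen.hypIdeal f).subschemeι ≫ CohB1.ProjSpace.toSpec 4 k)
          (Over.mk (𝟙 (Spec (CommRingCat.of k)))).hom)}) :
    IsIrreducible T ∧ ∀ x ∈ T, ringKrullDim (H.left.presheaf.stalk x) = N := by
  have hT' : T = {x : ↥H.left | ∃ c ∈ EmbSet f d, IsClass f H Z d c x} := by
    rw [hT]
    ext x
    constructor
    · rintro ⟨h, i, hx, hcl, hip, hdeg, hpull⟩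
      obtain ⟨c, hc, hci⟩ := exists_emb i hcl hip hdeg
      exact ⟨c, hc, h, i, hx, hci, hpull⟩
    · rintro ⟨c, hc, h, i, hx, hci, hpull⟩
      obtain ⟨-, i', hi', hcl⟩ := hc
      obtain rfl := RatTop.isPar_unique hci hi'
      exact ⟨h, i, hx, hcl, hci.1, deg_of_isPar c i hci, hpull⟩
  refine ⟨?_, ?_⟩
  · rw [hT']
    have hS : Irr k (EmbSet f d) := by
      refine irr_emb f hirr rank_emb ?_ nonempty
      intro c₀ hc₀
      obtain ⟨x₀, hx₀⟩ := exists_isClass f H Z hH hc₀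
      obtain ⟨G, hG, h1⟩ := exists_poly ⊤ c₀ hc₀ x₀ hx₀ trivial
      exact ⟨G, hG, fun c hc hcG => (h1 c hc hcG).1⟩
    refine RatTop.irreducible_of hS (IsClass f H Z d) (fun c _ x x' h h' => RatTop.isClass_unique hH h h')
      (fun c hc => exists_isClass f H Z hH hc) ?_
    intro A hA c₀ hc₀ x₀ hx₀ hxA
    obtain ⟨G, hG, h1⟩ := exists_poly ⟨A, hA⟩ c₀ hc₀ x₀ hx₀ hxA
    exact ⟨_, RatTop.isZOpen_eval G, hG, fun c hc hcG => (h1 c hc.1 hcG).2⟩
  · intro x hx
    rw [hT'] at hx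
    obtain ⟨c, hc, h, i, rfl, hci, hpull⟩ := hx
    obtain ⟨-, i', hi', hcl⟩ := hc
    obtain rfl := RatTop.isPar_unique hci hi'
    exact regular c i hcl hci h hpull

end K470.Asm
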