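import Groth.Agent.Fano.K470.CurDef
import Groth.Agent.Fano.K714.ConicIrr

/-!
# Good points of a smooth cubic threefold are dense

Assembly of the line nodes (S16526).
-/

set_option autoImplicit false

universe u

namespace K470.Good

open LefPen Groth.Agent.Lefpen.H703.ZOpen Module K714.Irr K714.Frames K470.Cur K656.Trilin K714.Surf

variable {k : Type u} [Field k]
variable {T : (Fin 5 → k) →ₗ[k] (Fin 5 → k) →ₗ[k] (Fin 5 → k) →ₗ[k] k}

/-- being of first type only depends on the line -/
theorem first_of_first (hT : IsSym3 T) {x p : Fin 5 → k} {a b c d : k}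
    (h : First T (a • x + b • p) (c • x + d • p)) : First T x p := by
  have hpx : T p x = T x p := LinearMap.ext fun w => hT.s12 p x w
  have hmem : ∀ i : Fin 3, (![T (a • x + b • p) (a • x + b • p), T (a • x + b • p) (c • x + d • p),
      T (c • x + d • p) (c • x + d • p)] : Fin 3 → _) i ∈
        Submodule.span k (Set.range (![T x x, T x p, T p p] : Fin 3 → _)) := by
    have m0 : T x x ∈ Submodule.span k (Set.range (![T x x, T x p, T p p] : Fin 3 → _)) :=
      Submodule.subset_span ⟨0, rfl⟩
    have m1 : T x p ∈ Submodule.span k (Set.range (![T x x, T x p, T p p] : Fin 3 → _)) :=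
      Submodule.subset_span ⟨1, rfl⟩
    have m2 : T p p ∈ Submodule.span k (Set.range (![T x x, T x p, T p p] : Fin 3 → _)) :=
      Submodule.subset_span ⟨2, rfl⟩
    have key : ∀ a b c d : k, T (a • x + b • p) (c • x + d • p) =
        (a * c) • T x x + (a * d + b * c) • T x p + (b * d) • T p p := by
      intro a b c d
      simp only [map_add, map_smul, LinearMap.add_apply, LinearMap.smul_apply, hpx]
      module
    intro i
    have : ∀ a b c d : k, T (a • x + b • p) (c • x + d • p) ∈
        Submodule.span k (Set.range (![T x x, T x p, T p p] : Fin 3 → _)) := by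
      intro a b c d
      rw [key]
      exact Submodule.add_mem _ (Submodule.add_mem _ (Submodule.smul_mem _ _ m0) (Submodule.smul_mem _ _ m1))
        (Submodule.smul_mem _ _ m2)
    fin_cases i <;> exact this _ _ _ _
  unfold First at h ⊢
  rw [linearIndependent_iff_card_le_finrank_span] at h ⊢
  refine h.trans ?_
  exact Submodule.finrank_mono (Submodule.span_le.2 (by rintro _ ⟨i, rfl⟩; exact hmem i))

/-- the first type condition is open -/
theorem isZOpen_first : IsZOpen k {q : (Fin 5 → k) × (Fin 5 → k) | First T q.1 q.2} := by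
  have hT2 : ∀ {φ ψ : (Fin 5 → k) × (Fin 5 → k) → (Fin 5 → k)}, IsPolyMap k φ → IsPolyMap k ψ →
      IsPolyMap k (fun q => T (φ q) (ψ q)) := by
    intro φ ψ hφ hψ
    exact K713.RangeOpen.pm_bilin T hφ hψ
  have h := K713.RangeOpen.isZOpen_linearIndependent (k := k)
    (V := (Fin 5 → k) × (Fin 5 → k)) (W := Dual k (Fin 5 → k)) (r := 3)
    ![fun q => T q.1 q.1, fun q => T q.1 q.2, fun q => T q.2 q.2] (by
      intro i
      fin_cases i
      · exact hT2 isPolyMap_fst isPolyMap_fst
      · exact hT2 isPolyMap_fst isPolyMap_snd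
      · exact hT2 isPolyMap_snd isPolyMap_snd)
  refine (isZOpen_congr fun q => ?_).1 h
  have : (fun i => (![fun q : (Fin 5 → k) × (Fin 5 → k) => T q.1 q.1, fun q => T q.1 q.2,
      fun q => T q.2 q.2] : Fin 3 → _) i q) = ![T q.1 q.1, T q.1 q.2, T q.2 q.2] := by
    funext i
    fin_cases i <;> rfl
  simp only [Set.mem_ofPred_eq, First]
  rw [this]

end K470.Good
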