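import Groth.Agent.Fano.K461.Top
import Groth.Agent.Fano.K305.DimA
import Groth.Agent.Fano.K798.DimGeo
import Groth.Agent.Fano.K289.UniqComp
import Groth.Agent.Fano.K861.LineCone
import Groth.Agent.Fano.K424.X0
import Groth.Agent.Fano.K431.ConLimit
import Groth.Agent.Fano.K332.GenPt
import Groth.Agent.Fano.K332.FirstT
import Groth.Agent.Fano.K40.ThreeLines
import Groth.Agent.Fano.K925.Comb
import Groth.Agent.Fano.K244.Bnd
import Groth.Agent.Fano.K105.CurBd
import Groth.Agent.Fano.K984.BoundaryDim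
import Groth.Agent.Fano.K473.Rescale
import Groth.Agent.Fano.K119.CC7
import Groth.Agent.Fano.K870.Reach
import Groth.Agent.Fano.K402.PX
import Groth.Agent.Fano.K805.LineCov
import Groth.Agent.Fano.K293.CombMove
import Groth.Agent.Fano.K956.CombEq
import Groth.Agent.Fano.K774.ChartB
import Groth.Agent.Fano.K470.Good

/-!
# Rational curves on a smooth cubic threefold: irreducibility of the space of curves of rank at least three

`T`: the trilinear form of a smooth cubic threefold.  Every component of the set `Z T e` of parametrised curves of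
degree `≤ e` has dimension `2e+4` and degenerates to a comb at every good point; the curves not contained in a line
form an irreducible set (`irr_rank`).  This file only combines the nodes K105, K119, K244, K289, K293, K305, K332, K40,
K402, K424, K431, K461, K473, K774, K798, K805, K861, K870, K925, K956, K984.

`IncProp T` (node CL5) is an explicit hypothesis.
-/

set_option autoImplicit false

universe u

namespace K470.Curves

open LefPen Groth.Agent.Lefpen.H703.ZOpen Module K714.Irr K714.Frames K470.Cur K656.Trilin K714.Surf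

variable {k : Type u} [Field k]

/-- dimension -/
abbrev PA (T : (Fin 5 → k) →ₗ[k] (Fin 5 → k) →ₗ[k] (Fin 5 → k) →ₗ[k] k) (e : ℕ) : Prop := DimLE k (Z T e) (2 * e + 4)

/-- degeneration to combs -/
abbrev PB (T : (Fin 5 → k) →ₗ[k] (Fin 5 → k) →ₗ[k] (Fin 5 → k) →ₗ[k] k) (e : ℕ) : Prop :=
  ∀ W, IsComp k (Z T e) W → ∀ x, GoodPt T x → Reach T x W

/-- curves through a point -/
abbrev PX (T : (Fin 5 → k) →ₗ[k] (Fin 5 → k) →ₗ[k] (Fin 5 → k) →ₗ[k] k) (e : ℕ) : Prop :=
  ∀ y : Fin 5 → k, y ≠ 0 → DimLE k {b : A k e | b ∈ Z T e ∧ b 0 ∈ Submodule.span k {y}} (2 * e + 2)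

/-- the curve of lines meeting a general line is irreducible -/
def IncProp (T : (Fin 5 → k) →ₗ[k] (Fin 5 → k) →ₗ[k] (Fin 5 → k) →ₗ[k] k) : Prop :=
  ∃ B : Set ((Fin 5 → k) × (Fin 5 → k)), IsZOpen k Bᶜ ∧
    (∀ x p : Fin 5 → k, (x, p) ∈ FR T → (x, p) ∈ B → ∀ a b c d : k, a * d - b * c ≠ 0 →
      (a • x + b • p, c • x + d • p) ∈ B) ∧
    ¬ FR T ⊆ B ∧ ∀ x p : Fin 5 → k, (x, p) ∈ FR T → (x, p) ∉ B → Irr k (Inc T x p)

variable [IsAlgClosed k] [CharZero k]
variable {T : (Fin 5 → k) →ₗ[k] (Fin 5 → k) →ₗ[k] (Fin 5 → k) →ₗ[k] k}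

/-- good points are dense -/
theorem exists_good (hI : IncProp T) (hT : IsSym3 T) (hsm : SmoothOn T ⊤) :
    ∃ O : Set (Fin 5 → k), IsZOpen k O ∧ (X0 T ∩ O).Nonempty ∧ ∀ x ∈ O, T x x x = 0 → GoodPt T x := by
  obtain ⟨B₂, hB₂, hinv₂, hne₂, hirr₂⟩ := hI
  let B₁ : Set ((Fin 5 → k) × (Fin 5 → k)) := {q | ¬ First T q.1 q.2}
  have hB₁ : IsZOpen k B₁ᶜ := by
    refine (isZOpen_congr fun q => ?_).1 (K470.Good.isZOpen_first (T := T))
    simp [B₁]
  have hB : IsZOpen k (B₁ ∪ B₂)ᶜ := by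
    rw [Set.compl_union]
    exact zo_inter hB₁ hB₂
  obtain ⟨x₁, p₁, hfr₁, hfirst⟩ := K332.FirstT.exists_first hT hsm
  have hne : ¬ FR T ⊆ B₁ ∪ B₂ := by
    intro hsub
    obtain ⟨q₂, hq₂, hq₂'⟩ := Set.not_subset.1 hne₂
    obtain ⟨q, hq, hq1, hq2⟩ := (K714.Frames.frames_irr hT hsm).2 _ _ hB₁ hB₂
      ⟨(x₁, p₁), hfr₁, fun h => h hfirst⟩ ⟨q₂, hq₂, hq₂'⟩
    rcases hsub hq with h | h
    · exact hq1 h
    · exact hq2 h
  obtain ⟨O₁, hO₁, hne₁, h₁⟩ := K332.GenPt.exists_general_point hT hsm hB (by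
    rintro x p hfr (h | h) a b c d had
    · left
      intro h'
      exact h (K470.Good.first_of_first hT h')
    · right
      exact hinv₂ x p hfr h a b c d had) hne
  obtain ⟨O₂, hO₂, hne₂', h₂⟩ := K40.ThreeLines.exists_three hT hsm
    (fun B hB1 hB2 hB3 => K332.GenPt.exists_general_point hT hsm hB1 hB2 hB3) ⟨x₁, p₁, hfr₁, hfirst⟩
  obtain ⟨x, hx, hx'⟩ := (K424.X0.irr_X0 hT hsm).2 O₁ O₂ hO₁ hO₂ hne₁ hne₂'
  refine ⟨O₁ ∩ O₂, zo_inter hO₁ hO₂, ⟨x, hx, hx'⟩, ?_⟩
  rintro y ⟨hy1, hy2⟩ hy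
  obtain ⟨hy0, h3⟩ := h₁ y hy1 hy
  refine ⟨hy0, hy, fun p hp => ?_, h₂ y hy2 hy⟩
  have h4 := h3 p hp
  refine ⟨by_contra fun h => h4 (Or.inl h), hirr₂ y p hp fun h => h4 (Or.inr h)⟩

theorem tools : K119.CC7.Tools k where
  subset_cl := K461.Top.subset_cl
  isZOpen_compl_cl := K461.Top.isZOpen_compl_cl
  cl_subset := K461.Top.cl_subset
  cl_image h _ hv := K461.Top.cl_image h hv
  irr_cl := K461.Top.irr_cl
  isComp_closed := K461.Top.isComp_closed
  exists_comp := K461.Top.exists_comp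
  dimGE_mono := K305.DimA.DimGE.mono
  dimLE_mono := K305.DimA.DimLE.mono
  dimGE_cl := K305.DimA.dimGE_cl
  dimLE_image h _ hφ := K305.DimA.DimLE.image h hφ
  dimLE_submodule := K305.DimA.dimLE_submodule
  dimGE_prod := K305.DimA.DimGE.prod
  dimGE_inter_open := K305.DimA.DimGE.inter_open
  eq_of_dim := K305.DimA.eq_of_dim
  dimLE_of_fibres hX hO _ _ h h' := K798.Dim.dimLE_of_fibres hX hO h h'

theorem pit : K984.BdDim.Pit k := fun hh _ hC _ hd => K798.Dim.pit hh hC hd

theorem pitOne : K244.Bnd.PitOne k := fun hS hc _ hg _ hv hgv _ hd => K798.Dim.pit_one hS hc hg hv hgv hd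

theorem fib : K984.BdDim.Fib k := fun hX hO _ _ h h' => K798.Dim.dimLE_of_fibres' hX hO h h'

theorem coneLE (hT : IsSym3 T) (hsm : SmoothOn T ⊤) : K984.BdDim.ConeLE T := fun hx =>
  K861.LineCone.dimLE_cone hT hsm hx

theorem finEck (hT : IsSym3 T) (hsm : SmoothOn T ⊤) : K984.BdDim.FinEck T := K861.LineCone.finite_eckardt hT hsm

theorem nodes (hI : IncProp T) (hT : IsSym3 T) (hsm : SmoothOn T ⊤) : K119.CC7.Nodes T where
  isZOpen_compl_Z := K984.BdDim.isZOpen_compl_Z
  ev_prodCurve := K870.CurTop.ev_prodCurve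
  comp_translate hW c _ ha := K870.CurTop.comp_translate hW c ha
  comp_scale hW c r _ ha := K473.Rescale.comp_scale hW c r ha
  cons_mem_of_cl hc _ hq := K244.Bnd.cons_mem_of_cl hc hq
  bd_eqs hW _ hq := K244.Bnd.bd_eqs hT hW hq
  exists_bd hW _ hd _ hq := K244.Bnd.exists_bd pitOne hW hd hq
  zero_mem_bd hW _ ha := K244.Bnd.zero_mem_bd hW ha
  comp_dimGE hW := K984.BdDim.comp_dimGE pit hT hW
  comp_ne hW := K984.BdDim.comp_ne pit hT hW
  exists_rescale hW _ _ h := K473.Rescale.exists_rescale hW h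
  irr_X0 := K424.X0.irr_X0 hT hsm
  dimGE_X0 := K424.X0.dimGE_X0 hT hsm
  dimLE_X0 := K424.X0.dimLE_X0 hT hsm
  exists_off_cone hy := K424.X0.exists_off_cone hT hsm hy
  exists_con_limit := Groth.Agent.Fano.K431.ConLimit.exists_con_limit hT hsm
  exists_good := exists_good hI hT hsm

theorem px_of (hI : IncProp T) (hT : IsSym3 T) (hsm : SmoothOn T ⊤) {e : ℕ} (hA : PA T e) (hB : PB T e) : PX T e :=
  K402.PX.px_of hT hsm (exists_good hI hT hsm) (fun hW c _ ha => K870.CurTop.comp_translate hW c ha)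
    K461.Top.isComp_closed K461.Top.exists_comp K461.Top.finite_comps (fun hX _ hv => K461.Top.mem_comp hX hv) hA hB

theorem comp_unique (hI : IncProp T) (hT : IsSym3 T) (hsm : SmoothOn T ⊤) {e : ℕ} {x : Fin 5 → k}
    (hx : GoodPt T x) {t t' : Fin e → k} {p p' : Fin e → Fin 5 → k} (hc : IsComb T x t p) (hc' : IsComb T x t' p')
    {W W' : Set (A k e)} (hW : IsComp k (Z T e) W) (hW' : IsComp k (Z T e) W')
    (h : comb x t p ∈ Cl k (Ov W)) (h' : comb x t' p' ∈ Cl k (Ov W')) {S : Set (Y k e)} (hS : S ⊆ Chart T e)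
    (hirr : Irr k S) (h1 : comb x t p ∈ Cl k S) (h2 : comb x t' p' ∈ Cl k S) : W = W' :=
  K925.Comb.comp_unique_of hT hsm K774.Chart.irr_ov (K774.Chart.ov_subset hT) (K774.Chart.mem_Z_of_chart hT) hx hc hc' hW hW' h h' hS hirr h1 h2

theorem rank_le_of_const (hI : IncProp T) (hT : IsSym3 T) (hsm : SmoothOn T ⊤) {e : ℕ} (he : 1 ≤ e)
    (hA : PA T e) {x : Fin 5 → k} (hx : GoodPt T x) {W : Set (A k e)} (hW : IsComp k (Z T e) W) {t : Fin e → k}
    {p : Fin e → Fin 5 → k} (hc : IsComb T x t p) {p₀ : Fin 5 → k} (hp : (x, p₀) ∈ FR T)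
    (hconst : ∀ i, p i ∈ Submodule.span k {x, p₀}) (h : comb x t p ∈ Cl k (Ov W)) {a : A k e} (ha : a ∈ W) :
    finrank k ↥(Submodule.span k (Set.range a)) ≤ 2 :=
  K805.LineCov.rank_le_of_const hT hsm he
    (K805.LineCov.dimGE_FR hT hsm K461.Top.exists_comp fun hh _ hC _ hd => K798.Dim.pit hh hC hd) hA
    (K774.Chart.ov_subset hT) K774.Chart.irr_ov
    (fun hc hc' _ _ hW hW' h h' _ hS hirr h1 h2 => comp_unique hI hT hsm hx hc hc' hW hW' h h' hS hirr h1 h2)
    hW hc hp hconst h ha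

theorem eq_of_nonconst (hI : IncProp T) (hT : IsSym3 T) (hsm : SmoothOn T ⊤) {e : ℕ} {x : Fin 5 → k} (hx : GoodPt T x)
    {t t' : Fin e → k} {p p' : Fin e → Fin 5 → k} (hc : IsComb T x t p) (hc' : IsComb T x t' p')
    (hn : ∃ i j, LinearIndependent k ![x, p i, p j]) (hn' : ∃ i j, LinearIndependent k ![x, p' i, p' j])
    {W W' : Set (A k e)} (hW : IsComp k (Z T e) W) (hW' : IsComp k (Z T e) W')
    (h : comb x t p ∈ Cl k (Ov W)) (h' : comb x t' p' ∈ Cl k (Ov W')) : W = W' :=
  K956.CombEq.eq_of_nonconst K925.Comb.comb_unique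
    (fun hT hsm _ _ hx _ _ _ _ hc hc' _ _ hW hW' h h' _ hS hirr h1 h2 =>
      comp_unique hI hT hsm hx hc hc' hW hW' h h' hS hirr h1 h2)
    K293.CombMove.move hT hsm hx hc hc' hn hn' hW hW' h h'

/-- dimension and degeneration to combs -/
theorem pab (hI : IncProp T) (hT : IsSym3 T) (hsm : SmoothOn T ⊤) (e : ℕ) : PA T e ∧ PB T e ∧ PX T e := by
  induction e using Nat.strong_induction_on with
  | _ e ih =>
    rcases e with _ | e
    · have hA : PA T 0 := K984.BdDim.pa_zero hT hsm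
      have hB : PB T 0 := K870.Reach.pb_zero hT hsm
      exact ⟨hA, hB, px_of hI hT hsm hA hB⟩
    · have hA : PA T (e + 1) := K984.BdDim.pa_succ pitOne fib (coneLE hT hsm) (finEck hT hsm) hT hsm
        (ih e (Nat.lt_succ_self e)).1 (ih e (Nat.lt_succ_self e)).2.2
        fun e' he' => (ih e' (by omega)).1
      have hB : PB T (e + 1) := by
        intro W hW x hx
        obtain ⟨b, hb0, hb⟩ := K119.CC7.exists_simple tools (nodes hI hT hsm) hT hsm (e := e) (fun e' he' => by
          rcases Nat.lt_or_ge e' (e + 1) with h | h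
          · exact (ih e' h).1
          · obtain rfl : e' = e + 1 := le_antisymm he' h
            exact hA) (fun e' he' => (ih e' (by omega)).2.1) hW
        obtain ⟨p, -, hp⟩ := K105.CurBd.exists_mem_bd hW.2.1
          (K461.Top.isComp_closed (K984.BdDim.isZOpen_compl_Z (T := T) (e + 1)) hW)
          (K984.BdDim.comp_ne pit hT hW) hb
        obtain ⟨G, W', hG, hGirr, hW', hq, hcl⟩ := K984.BdDim.exists_type_one pit pitOne fib (coneLE hT hsm)
          (finEck hT hsm) hT hsm (ih e (Nat.lt_succ_self e)).1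
          (ih e (Nat.lt_succ_self e)).2.2 hW hp hb0
        exact K870.Reach.reach_succ hT (fun _ _ h c d hc => K105.CurBd.bd_add hW h c d hc)
          (fun q hq => K244.Bnd.bd_eqs hT hW.1 hq) hG hW' hq hcl hx ((ih e (Nat.lt_succ_self e)).2.1 W' hW' x hx)
      exact ⟨hA, hB, px_of hI hT hsm hA hB⟩

theorem isZOpen_rank {e r : ℕ} :
    IsZOpen k {a : A k e | r ≤ finrank k ↥(Submodule.span k (Set.range a))} := by
  classical
  have hset : {a : A k e | r ≤ finrank k ↥(Submodule.span k (Set.range a))} =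
      ⋃ s : Fin r → Fin (e + 1), {a : A k e | LinearIndependent k fun i => a (s i)} := by
    ext a
    simp only [Set.mem_ofPred_eq, Set.mem_iUnion]
    constructor
    · intro h
      obtain ⟨b, hb1, hb2, hb3⟩ := exists_linearIndependent k (Set.range a)
      have hfin : b.Finite := (Set.finite_range a).subset hb1
      have := hfin.fintype
      have hcard : finrank k ↥(Submodule.span k b) = Fintype.card b := by
        have := finrank_span_set_eq_card (R := k) (s := b) hb3
        rw [this, Set.toFinset_card]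
      have hr : r ≤ Fintype.card b := by
        rw [← hcard, hb2]
        exact h
      obtain ⟨g⟩ : Nonempty (Fin r ↪ b) := by
        apply Function.Embedding.nonempty_of_card_le
        rwa [Fintype.card_fin]
      choose s hs using fun i : Fin r => hb1 (g i).2
      refine ⟨s, ?_⟩
      have h1 : (fun i => a (s i)) = (fun x : b => (x : Fin 5 → k)) ∘ g := by
        funext i
        exact hs i
      rw [h1]
      exact hb3.comp g g.injective
    · rintro ⟨s, hs⟩
      have h2 : finrank k ↥(Submodule.span k (Set.range fun i => a (s i))) = r := by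
        rw [finrank_span_eq_card hs, Fintype.card_fin]
      rw [← h2]
      refine Submodule.finrank_mono (Submodule.span_mono ?_)
      rintro _ ⟨i, rfl⟩
      exact ⟨s i, rfl⟩
  rw [hset]
  refine isZOpen_iUnion fun s => ?_
  exact K713.RangeOpen.isZOpen_linearIndependent (k := k) (V := A k e) (W := Fin 5 → k) (r := r)
    (fun i a => a (s i)) fun i => isPolyMap_linear
      (LinearMap.proj (R := k) (φ := fun _ : Fin (e + 1) => Fin 5 → k) (s i))

/-- **The curves of rank at least three form an irreducible set.** -/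
theorem irr_rank (hI : IncProp T) (hT : IsSym3 T) (hsm : SmoothOn T ⊤) {e : ℕ}
    (hne : ∃ a ∈ Z T e, 3 ≤ finrank k ↥(Submodule.span k (Set.range a))) :
    Irr k {a : A k e | a ∈ Z T e ∧ 3 ≤ finrank k ↥(Submodule.span k (Set.range a))} := by
  obtain ⟨hA, hB, -⟩ := pab hI hT hsm e
  obtain ⟨O, -, ⟨x, hx0, hxO⟩, hgood⟩ := exists_good hI hT hsm
  have hx : GoodPt T x := hgood x hxO hx0
  have hZ : IsZOpen k (Z T e)ᶜ := K984.BdDim.isZOpen_compl_Z e
  -- every component containing a curve of rank three degenerates to a nonconstant comb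
  have key : ∀ W, IsComp k (Z T e) W → ∀ a ∈ W, 3 ≤ finrank k ↥(Submodule.span k (Set.range a)) →
      ∃ t p, IsComb T x t p ∧ comb x t p ∈ Cl k (Ov W) ∧ ∃ i j, LinearIndependent k ![x, p i, p j] := by
    intro W hW a ha hr
    obtain ⟨t, p, hc, hcl⟩ := hB W hW x hx
    refine ⟨t, p, hc, hcl, ?_⟩
    by_contra hno
    push Not at hno
    rcases e with _ | e
    · have h1 : finrank k ↥(Submodule.span k (Set.range a)) ≤ 1 := by
        refine (finrank_range_le_card (R := k) a).trans ?_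
        simp
      omega
    · have h2 := rank_le_of_const hI hT hsm (Nat.le_add_left 1 e) hA hx hW hc (hc.2 0) (fun i => by
        by_contra hi
        refine hno 0 i ?_
        have hfr := (hc.2 0).1
        simp only at hfr
        rw [LinearIndependent.pair_iff] at hfr
        rw [Fintype.linearIndependent_iff]
        intro g hg
        rw [Fin.sum_univ_three] at hg
        simp only [Matrix.cons_val] at hg
        have h2 : g 2 = 0 := by
          by_contra h2
          apply hi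
          rw [Submodule.mem_span_pair]
          refine ⟨-(g 2)⁻¹ * g 0, -(g 2)⁻¹ * g 1, ?_⟩
          have h3 : g 2 • p i = -(g 0 • x + g 1 • p 0) := by
            rw [eq_neg_iff_add_eq_zero, add_comm]
            exact hg
          have h4 : p i = (g 2)⁻¹ • (g 2 • p i) := by rw [smul_smul, inv_mul_cancel₀ h2, one_smul]
          rw [h4, h3]
          module
        rw [h2, zero_smul, add_zero] at hg
        obtain ⟨h0, h1⟩ := hfr _ _ hg
        intro j
        fin_cases j
        · exact h0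
        · exact h1
        · exact h2) hcl ha
      omega
  obtain ⟨a₀, ha₀, hr₀⟩ := hne
  obtain ⟨W₀, hW₀, haW₀⟩ := K461.Top.mem_comp hZ ha₀
  obtain ⟨t₀, p₀, hc₀, hcl₀, hn₀⟩ := key W₀ hW₀ a₀ haW₀ hr₀
  have hset : {a : A k e | a ∈ Z T e ∧ 3 ≤ finrank k ↥(Submodule.span k (Set.range a))} =
      W₀ ∩ {a : A k e | 3 ≤ finrank k ↥(Submodule.span k (Set.range a))} := by
    ext a
    constructor
    · rintro ⟨ha, hr⟩
      obtain ⟨W, hW, haW⟩ := K461.Top.mem_comp hZ ha
      obtain ⟨t, p, hc, hcl, hn⟩ := key W hW a haW hr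
      have hWW : W = W₀ := eq_of_nonconst hI hT hsm hx hc hc₀ hn hn₀ hW hW₀ hcl hcl₀
      exact ⟨hWW ▸ haW, hr⟩
    · rintro ⟨ha, hr⟩
      exact ⟨hW₀.1 ha, hr⟩
  rw [hset]
  exact hW₀.2.1.inter_open isZOpen_rank ⟨a₀, haW₀, hr₀⟩

end K470.Curves
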