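import Groth.Agent.Fano.K470.Curves
import Groth.Agent.Fano.K705.IncIrr
import Groth.Agent.Fano.K913.BadProper

/-!
# Rational curves on a smooth cubic threefold: irreducibility, final form

`irr_rank`: the parametrised curves of degree `≤ e` on a smooth cubic threefold which are not contained in a line form an
irreducible set (for every `e`).
-/

set_option autoImplicit false

universe u

namespace K470.CurvesFin

open LefPen Groth.Agent.Lefpen.H703.ZOpen Module K714.Irr K714.Frames K470.Cur K656.Trilin K714.Surf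

variable {k : Type u} [Field k] [IsAlgClosed k] [CharZero k]
variable {T : (Fin 5 → k) →ₗ[k] (Fin 5 → k) →ₗ[k] (Fin 5 → k) →ₗ[k] k}

theorem incProp (hT : IsSym3 T) (hsm : SmoothOn T ⊤) : K470.Curves.IncProp T :=
  K913.BadProper.exists_irr_inc_of hT hsm (K332.FirstT.exists_first hT hsm)
    fun _ _ => K705.IncIrr.irr_inc_of hT hsm

/-- the space of curves of degree `≤ e` has dimension `2e+4` -/
theorem dimLE_Z (hT : IsSym3 T) (hsm : SmoothOn T ⊤) (e : ℕ) : DimLE k (Z T e) (2 * e + 4) :=
  (K470.Curves.pab (incProp hT hsm) hT hsm e).1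

/-- every component of the space of curves of degree `≤ e` degenerates to a comb at every good point -/
theorem reach (hT : IsSym3 T) (hsm : SmoothOn T ⊤) (e : ℕ) {W : Set (A k e)} (hW : IsComp k (Z T e) W)
    {x : Fin 5 → k} (hx : GoodPt T x) : Reach T x W :=
  (K470.Curves.pab (incProp hT hsm) hT hsm e).2.1 W hW x hx

/-- curves through a point -/
theorem dimLE_through (hT : IsSym3 T) (hsm : SmoothOn T ⊤) (e : ℕ) {y : Fin 5 → k} (hy : y ≠ 0) :
    DimLE k {b : A k e | b ∈ Z T e ∧ b 0 ∈ Submodule.span k {y}} (2 * e + 2) :=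
  (K470.Curves.pab (incProp hT hsm) hT hsm e).2.2 y hy

/-- good points are dense -/
theorem exists_good (hT : IsSym3 T) (hsm : SmoothOn T ⊤) :
    ∃ O : Set (Fin 5 → k), IsZOpen k O ∧ (X0 T ∩ O).Nonempty ∧ ∀ x ∈ O, T x x x = 0 → GoodPt T x :=
  K470.Curves.exists_good (incProp hT hsm) hT hsm

/-- **The curves of rank at least three form an irreducible set.** -/
theorem irr_rank (hT : IsSym3 T) (hsm : SmoothOn T ⊤) {e : ℕ}
    (hne : ∃ a ∈ Z T e, 3 ≤ finrank k ↥(Submodule.span k (Set.range a))) :
    Irr k {a : A k e | a ∈ Z T e ∧ 3 ≤ finrank k ↥(Submodule.span k (Set.range a))} :=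
  K470.Curves.irr_rank (incProp hT hsm) hT hsm hne

end K470.CurvesFin
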