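import Groth.Agent.Fano.K714.RatDef

/-!
# PLAN (sorried, never import in a shipped proof): Hilbert scheme part of S16526 (and S16525)
-/

set_option autoImplicit false
universe u
open CategoryTheory CategoryTheory.Limits AlgebraicGeometry TopologicalSpace Opposite

namespace K470.PlanHilb

open Groth.Agent.Fano.K714.Rat

variable {k : Type u} [Field k]

/-- coefficient systems of embedded rational curves of degree `d` on `V_+(f)` (not necessarily linearly independent) -/
def EmbSet (f : LefPen.Form 4 k 3) (d : ℕ) : Set (Fin (d + 1) → Fin 5 → k) :=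
  {c | (∀ s t : k, MvPolynomial.eval (cpt c s t) f.1 = 0) ∧
    ∃ i : CohB1.ProjSpace 1 k ⟶ Xf f, IsPar f d c i ∧ IsClosedImmersion i}

/-- NODE S1: embedded curves form an open subset of the curves on `V_+(f)`, and their classes depend continuously on the
coefficients -/
theorem exists_poly_emb [IsAlgClosed k] [CharZero k] (f : LefPen.Form 4 k 3) (H : Over (Spec (CommRingCat.of k)))
    (Z : FGA.HilbSet (ps f) H) (hH : FGA.HilbRepresentedBy (ps f) H Z) {d : ℕ} (hd : 1 ≤ d) (A : H.left.Opens)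
    {c₀ : Fin (d + 1) → Fin 5 → k} (hc₀ : c₀ ∈ EmbSet f d) {x₀ : ↥H.left} (hx₀ : IsClass f H Z d c₀ x₀)
    (hA : x₀ ∈ A) :
    ∃ G : MvPolynomial (Fin (d + 1) × Fin 5) k, MvPolynomial.eval (fun q => c₀ q.1 q.2) G ≠ 0 ∧
      ∀ c : Fin (d + 1) → Fin 5 → k, (∀ s t : k, MvPolynomial.eval (cpt c s t) f.1 = 0) →
        MvPolynomial.eval (fun q => c q.1 q.2) G ≠ 0 → c ∈ EmbSet f d ∧ ∃ x ∈ A, IsClass f H Z d c x := by
  sorry

/-- NODE S2: embedded curves of degree at least two span at least a plane -/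
theorem rank_emb [IsAlgClosed k] [CharZero k] (f : LefPen.Form 4 k 3) {d : ℕ} (hd : 2 ≤ d)
    {c : Fin (d + 1) → Fin 5 → k} (hc : c ∈ EmbSet f d) :
    3 ≤ Module.finrank k ↥(Submodule.span k (Set.range c)) := by
  sorry

/-- NODE S3 (= A1 of helper475): every closed immersion of degree `d` is parametrised -/
theorem exists_emb [IsAlgClosed k] [CharZero k] (f : LefPen.Form 4 k 3) {d : ℕ}
    (i : CohB1.ProjSpace 1 k ⟶ Xf f) [IsClosedImmersion i]
    (hi : i ≫ ps f = CohB1.ProjSpace.toSpec 1 k)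
    (hdeg : Nonempty ((Scheme.Modules.pullback (i ≫ emb f)).obj (Twist.twistProjSpace 4 k 1) ≅
      Twist.twistProjSpace 1 k (d : ℤ))) :
    ∃ c ∈ EmbSet f d, IsPar f d c i := by
  sorry

/-- NODE S4: conversely, a parametrised closed immersion has degree `d` -/
theorem deg_of_isPar [IsAlgClosed k] [CharZero k] (f : LefPen.Form 4 k 3) {d : ℕ} {c : Fin (d + 1) → Fin 5 → k}
    {i : CohB1.ProjSpace 1 k ⟶ Xf f} (hi : IsPar f d c i) :
    Nonempty ((Scheme.Modules.pullback (i ≫ emb f)).obj (Twist.twistProjSpace 4 k 1) ≅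
      Twist.twistProjSpace 1 k (d : ℤ)) := by
  sorry

/-- NODE S5 (= E4, E5 of helper483): existence -/
theorem exists_quintic [IsAlgClosed k] [CharZero k] (f : LefPen.Form 4 k 3) (hf : f ≠ 0) [Smooth (ps f)] :
    (EmbSet f 5).Nonempty := by
  sorry

/-- NODE S6 (= A5 of helper496): regularity -/
theorem regular_quintic [IsAlgClosed k] [CharZero k] (f : LefPen.Form 4 k 3) (hf : f ≠ 0) [Smooth (ps f)]
    (H : Over (Spec (CommRingCat.of k))) (Z : FGA.HilbSet (ps f) H)
    (hH : FGA.HilbRepresentedBy (ps f) H Z) (c : Fin (5 + 1) → Fin 5 → k) (i : CohB1.ProjSpace 1 k ⟶ Xf f)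
    [IsClosedImmersion i] (hc : IsPar f 5 c i) (h : pt k ⟶ H)
    (hh : FGA.hilbPull (ps f) h Z.1 = i.ker.comap (pullback.fst (ps f) (pt k).hom)) :
    ringKrullDim (H.left.presheaf.stalk (h.left.base (IsLocalRing.closedPoint k))) = 10 := by
  sorry

end K470.PlanHilb
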