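import Groth.Agent.Fano.K470.Asm
import Groth.Agent.Fano.K470.CurvesFin
import Groth.Agent.Fano.K468.Locus
import Groth.Agent.Fano.K475.RatPar
import Groth.Agent.Fano.K501.RankEmb
import Groth.Agent.Fano.K459.EmbOpen

/-!
# Smooth rational curves of degree `d` on a smooth cubic threefold (general `d`)

`main`: if there is a smooth rational curve of degree `d ≥ 2` and there are no maps from the conormal sheaf of such a
curve to `O(-2d)`, then the locus of smooth rational curves of degree `d` in the Hilbert scheme is irreducible and the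
Hilbert scheme has dimension `2d` at its points.
-/

set_option autoImplicit false
universe u
open CategoryTheory CategoryTheory.Limits AlgebraicGeometry TopologicalSpace Opposite

namespace K470.RatFin

open Groth.Agent.Fano Groth.Agent.Fano.K714 Groth.Agent.Fano.K714.Rat Groth.Agent.Fano.K468.Locus K470.Asm

variable {k : Type u} [Field k] [IsAlgClosed k] [CharZero k]

/-- irreducibility only -/
theorem irreducible (f : LefPen.Form 4 k 3) (hf : f ≠ 0) [hs : Smooth (ps f)]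
    (H : Over (Spec (CommRingCat.of k))) (Z : FGA.HilbSet (ps f) H) (hH : FGA.HilbRepresentedBy (ps f) H Z)
    {d : ℕ} (hd : 2 ≤ d) {N : WithBot ℕ∞}
    (hne : ∃ (c : Fin (d + 1) → Fin 5 → k) (i : CohB1.ProjSpace 1 k ⟶ Xf f), IsPar f d c i ∧ IsClosedImmersion i)
    (regular : ∀ (c : Fin (d + 1) → Fin 5 → k) (i : CohB1.ProjSpace 1 k ⟶ Xf f)
      (_ : IsClosedImmersion i) (_ : IsPar f d c i) (h : pt k ⟶ H)
      (_ : FGA.hilbPull (ps f) h Z.1 = i.ker.comap (pullback.fst (ps f) (pt k).hom)),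
      ringKrullDim (H.left.presheaf.stalk (h.left.base (IsLocalRing.closedPoint k))) = N)
    (T : Set ↥H.left)
    (hT : T = {x | ∃ (h : Over.mk (𝟙 (Spec (CommRingCat.of k))) ⟶ H)
      (i : CohB1.ProjSpace 1 k ⟶ (LefPen.hypIdeal f).subscheme),
      x = h.left.base (IsLocalRing.closedPoint k) ∧ IsClosedImmersion i ∧
      i ≫ (LefPen.hypIdeal f).subschemeι ≫ CohB1.ProjSpace.toSpec 4 k = CohB1.ProjSpace.toSpec 1 k ∧
      Nonempty ((Scheme.Modules.pullback (i ≫ (LefPen.hypIdeal f).subschemeι)).obj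
        (Twist.twistProjSpace 4 k 1) ≅ Twist.twistProjSpace 1 k (d : ℤ)) ∧
      FGA.hilbPull ((LefPen.hypIdeal f).subschemeι ≫ CohB1.ProjSpace.toSpec 4 k) h Z.1 =
        i.ker.comap (pullback.fst ((LefPen.hypIdeal f).subschemeι ≫ CohB1.ProjSpace.toSpec 4 k)
          (Over.mk (𝟙 (Spec (CommRingCat.of k)))).hom)}) :
    IsIrreducible T ∧ ∀ x ∈ T, ringKrullDim (H.left.presheaf.stalk x) = N := by
  have hd1 : 1 ≤ d := by omega
  refine K470.Asm.main f
    (fun hne => K470.CurvesFin.irr_rank (K656.Trilin.tri_sym f.1) (K714.JacSm.smoothOn_tri f hf hs) hne)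
    (fun c hc => K501.RankEmb.rank_emb f hd hc)
    (fun i hcl hi hdeg => ?_)
    (fun c i hi => K501.RankEmb.deg_of_isPar f hi) ?_ H Z hH
    (fun A c₀ hc₀ x₀ hx₀ hA => K459.Emb.exists_poly_emb f H Z hH hd1 A hc₀ hx₀ hA)
    regular T hT
  · obtain ⟨c, hc, -, -, h0⟩ := K475.RatPar.exists_par_gen f (d := d) (by omega) i hi hdeg
    exact ⟨c, ⟨h0, i, hc, hcl⟩, hc⟩
  · obtain ⟨c, i, hc, hcl⟩ := hne
    exact ⟨c, K475.RatPar.eval_cpt f (by omega) hc, i, hc, hcl⟩

/-- **Smooth rational curves of degree `d`** form an irreducible locus of dimension `2d`, if the normal bundles have no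
first cohomology. -/
theorem main (f : LefPen.Form 4 k 3) (hf : f ≠ 0) [hs : Smooth (ps f)]
    (H : Over (Spec (CommRingCat.of k))) (Z : FGA.HilbSet (ps f) H) (hH : FGA.HilbRepresentedBy (ps f) H Z)
    {d : ℕ} (hd : 2 ≤ d)
    (hne : ∃ (c : Fin (d + 1) → Fin 5 → k) (i : CohB1.ProjSpace 1 k ⟶ Xf f), IsPar f d c i ∧ IsClosedImmersion i)
    (hcon : ∀ (c : Fin (d + 1) → Fin 5 → k) (i : CohB1.ProjSpace 1 k ⟶ Xf f), IsClosedImmersion i →
      IsPar f d c i → ∀ θ : Omega.conormal i ⟶ Twist.twistProjSpace 1 k (-2 * (d : ℤ)), θ = 0)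
    (T : Set ↥H.left)
    (hT : T = {x | ∃ (h : Over.mk (𝟙 (Spec (CommRingCat.of k))) ⟶ H)
      (i : CohB1.ProjSpace 1 k ⟶ (LefPen.hypIdeal f).subscheme),
      x = h.left.base (IsLocalRing.closedPoint k) ∧ IsClosedImmersion i ∧
      i ≫ (LefPen.hypIdeal f).subschemeι ≫ CohB1.ProjSpace.toSpec 4 k = CohB1.ProjSpace.toSpec 1 k ∧
      Nonempty ((Scheme.Modules.pullback (i ≫ (LefPen.hypIdeal f).subschemeι)).obj
        (Twist.twistProjSpace 4 k 1) ≅ Twist.twistProjSpace 1 k (d : ℤ)) ∧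
      FGA.hilbPull ((LefPen.hypIdeal f).subschemeι ≫ CohB1.ProjSpace.toSpec 4 k) h Z.1 =
        i.ker.comap (pullback.fst ((LefPen.hypIdeal f).subschemeι ≫ CohB1.ProjSpace.toSpec 4 k)
          (Over.mk (𝟙 (Spec (CommRingCat.of k)))).hom)}) :
    IsIrreducible T ∧ ∀ x ∈ T, ringKrullDim (H.left.presheaf.stalk x) = (2 * d : ℕ) := by
  refine irreducible f hf H Z hH hd hne (fun c i hcl hi h hh => ?_) T hT
  refine (regular_ratSet f hf H Z hH d (fun i' hi' hp' hdeg' θ => ?_) _ ⟨h, i, rfl, hcl, hi.1,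
    K501.RankEmb.deg_of_isPar f hi, hh⟩).2
  obtain ⟨c', hc', -, -, -⟩ := K475.RatPar.exists_par_gen f (d := d) (by omega) i' hp' hdeg'
  exact hcon c' i' hi' hc' θ

end K470.RatFin
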