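import Groth.Agent.Fano.K470.RatFin
import Groth.Agent.Fano.K475.QuartHom
import Groth.Agent.Fano.K483.QuartEx

/-!
# Smooth rational quartics on a smooth cubic threefold

`main4`: the statement of S16525 over any algebraically closed field of characteristic zero.
-/

set_option autoImplicit false
universe u
open CategoryTheory CategoryTheory.Limits AlgebraicGeometry TopologicalSpace Opposite

namespace K470.RatFour

open Groth.Agent.Fano Groth.Agent.Fano.K714 Groth.Agent.Fano.K714.Rat

variable {k : Type u} [Field k] [IsAlgClosed k] [CharZero k]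

/-- Smooth rational quartics form an irreducible locus of dimension eight. -/
theorem main4 (f : LefPen.Form 4 k 3) (hf : f ≠ 0) [hs : Smooth (ps f)]
    (H : Over (Spec (CommRingCat.of k))) (Z : FGA.HilbSet (ps f) H) (hH : FGA.HilbRepresentedBy (ps f) H Z)
    (T : Set ↥H.left)
    (hT : T = {x | ∃ (h : Over.mk (𝟙 (Spec (CommRingCat.of k))) ⟶ H)
      (i : CohB1.ProjSpace 1 k ⟶ (LefPen.hypIdeal f).subscheme),
      x = h.left.base (IsLocalRing.closedPoint k) ∧ IsClosedImmersion i ∧
      i ≫ (LefPen.hypIdeal f).subschemeι ≫ CohB1.ProjSpace.toSpec 4 k = CohB1.ProjSpace.toSpec 1 k ∧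
      Nonempty ((Scheme.Modules.pullback (i ≫ (LefPen.hypIdeal f).subschemeι)).obj
        (Twist.twistProjSpace 4 k 1) ≅ Twist.twistProjSpace 1 k 4) ∧
      FGA.hilbPull ((LefPen.hypIdeal f).subschemeι ≫ CohB1.ProjSpace.toSpec 4 k) h Z.1 =
        i.ker.comap (pullback.fst ((LefPen.hypIdeal f).subschemeι ≫ CohB1.ProjSpace.toSpec 4 k)
          (Over.mk (𝟙 (Spec (CommRingCat.of k)))).hom)}) :
    IsIrreducible T ∧ ∀ x ∈ T, ringKrullDim (H.left.presheaf.stalk x) = 8 := by
  have h := K470.RatFin.main f hf H Z hH (d := 4) (by norm_num) (K483.RatEx.exists_quartic f hf)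
    (fun c i hcl hi θ => K475.QuartHom.hom_conormal_quartic f i c hi θ) T hT
  refine ⟨h.1, fun x hx => (h.2 x hx).trans ?_⟩
  norm_num

end K470.RatFour
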